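import Groth.Prelude.Def_W4c5qcohlocdualityLoc
import Groth.Agent.SubobjQuot.Directed
import Mathlib.CategoryTheory.Limits.Constructions.EpiMono

/-!
Closed objects for a class are closed for its localizing closure.
-/

set_option autoImplicit false
universe w v u

open CategoryTheory CategoryTheory.Limits Groth.Agent.SubobjQuot
open scoped ZeroObject

namespace Groth.Agent.GabClosed

variable {C : Type u} [Category.{v} C] [Abelian C] (M : C)

/-- No maps to `M`, and all extensions by `M` split. -/
def Good (Y : C) : Prop :=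
  (∀ f : Y ⟶ M, f = 0) ∧
    ∀ ⦃N : C⦄ (i : M ⟶ N) (q : N ⟶ Y) (w : i ≫ q = 0),
      (ShortComplex.mk i q w).ShortExact → IsSplitMono i

/-- All subquotients are good. -/
def Hered : ObjectProperty C := fun X =>
  ∀ ⦃B Y : C⦄ (i : B ⟶ X) (p : B ⟶ Y), Mono i → Epi p → Good M Y

variable {M}

theorem hered_le (P : ObjectProperty C) [P.IsClosedUnderSubobjects] [P.IsClosedUnderQuotients]
    (hP : GabLoc.IsClosedFor P M) : P ≤ Hered M := fun X hX B Y i p _ _ =>
  have hY : P Y := P.prop_of_epi p (P.prop_of_mono i hX)
  ⟨fun f => hP.1 hY f, fun _ i q w hS => hP.2 i q w hY hS⟩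

/-- Good objects lift along extensions by `M`. -/
theorem Good.exists_lift {Y N T : C} (hT : Good M T) {i : M ⟶ N} {q : N ⟶ Y} {w : i ≫ q = 0}
    (hS : (ShortComplex.mk i q w).ShortExact) (g : T ⟶ Y) : ∃ s : T ⟶ N, s ≫ q = g := by
  have := hS.epi_g
  have := hS.mono_f
  let i' : M ⟶ pullback q g := pullback.lift i 0 (by simpa using w)
  have hw : i' ≫ pullback.snd q g = 0 := pullback.lift_snd _ _ _
  have hi' : i' ≫ pullback.fst q g = i := pullback.lift_fst _ _ _
  have : Mono i' := mono_of_mono_fac hi'
  have : Epi (pullback.snd q g) := Abelian.epi_pullback_of_epi_f q g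
  have hex : (ShortComplex.mk i' (pullback.snd q g) hw).Exact := by
    rw [ShortComplex.exact_iff_exact_up_to_refinements]
    intro W x hx
    dsimp at x hx
    obtain ⟨W', π, hπ, m, hm⟩ := hS.exact.exact_up_to_refinements (x ≫ pullback.fst q g)
      (by dsimp; rw [Category.assoc, pullback.condition, reassoc_of% hx, zero_comp])
    dsimp at m hm
    refine ⟨W', π, hπ, m, ?_⟩
    apply pullback.hom_ext
    · simp only [Category.assoc]; rw [hi']; exact hm
    · simp only [Category.assoc]; rw [hw, hx, comp_zero, comp_zero]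
  have := hT.2 i' (pullback.snd q g) hw ⟨hex⟩
  let σ := ShortComplex.Splitting.ofExactOfRetraction _ hex (retraction i') (IsSplitMono.id i')
    inferInstance
  refine ⟨σ.s ≫ pullback.fst q g, ?_⟩
  have := σ.s_g
  dsimp at this
  rw [Category.assoc, pullback.condition, reassoc_of% this]

/-- An extension of good objects is good. -/
theorem good_of_extension {Y₁ Y Y₃ : C} {f : Y₁ ⟶ Y} {g : Y ⟶ Y₃} {w : f ≫ g = 0}
    (hY : (ShortComplex.mk f g w).ShortExact) (h₁ : Good M Y₁) (h₃ : Good M Y₃) : Good M Y := by
  refine ⟨fun φ => ?_, fun N i q hw hS => ?_⟩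
  · have := hY.epi_g
    rw [← hY.exact.g_desc φ (h₁.1 _), h₃.1 (hY.exact.desc φ _), comp_zero]
  obtain ⟨s, hs⟩ := h₁.exists_lift hS f
  have := hS.epi_g
  have := hS.mono_f
  have := hY.mono_f
  have := hY.epi_g
  have hsg : s ≫ q ≫ g = 0 := by rw [reassoc_of% hs, w]
  let g' : cokernel s ⟶ Y₃ := cokernel.desc s (q ≫ g) hsg
  have hw' : (i ≫ cokernel.π s) ≫ g' = 0 := by simp [g', reassoc_of% hw]
  have hex' := (ShortComplex.mk s (cokernel.π s) (cokernel.condition s)).exact_of_g_is_cokernel
    (cokernelIsCokernel s)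
  have : Mono (i ≫ cokernel.π s) := by
    refine Preadditive.mono_of_cancel_zero _ fun {W} x hx => ?_
    rw [← Category.assoc] at hx
    obtain ⟨W', π, _, y, hy⟩ := hex'.exact_up_to_refinements (x ≫ i) hx
    dsimp at y hy
    have : y = 0 := by
      rw [← cancel_mono f, zero_comp, ← hs, ← Category.assoc, ← hy]
      simp [hw]
    rw [← cancel_epi π, comp_zero, ← cancel_mono i, zero_comp, Category.assoc, hy, this, zero_comp]
  have : Epi g' := by
    have : Epi (cokernel.π s ≫ g') := by rw [cokernel.π_desc]; infer_instance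
    exact epi_of_epi (cokernel.π s) g'
  have hex : (ShortComplex.mk (i ≫ cokernel.π s) g' hw').Exact := by
    rw [ShortComplex.exact_iff_exact_up_to_refinements]
    intro W x hx
    dsimp at x hx
    obtain ⟨W₁, π₁, _, n, hn⟩ := surjective_up_to_refinements_of_epi (cokernel.π s) x
    have hn0 : (n ≫ q) ≫ g = 0 := by
      have := congrArg (π₁ ≫ ·) hx
      simp only [comp_zero] at this
      rw [← Category.assoc π₁, hn] at this
      simpa [g'] using this
    obtain ⟨W₂, π₂, _, y, hy⟩ := hY.exact.exact_up_to_refinements (n ≫ q) hn0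
    dsimp at y hy
    obtain ⟨W₃, π₃, _, m, hm⟩ := hS.exact.exact_up_to_refinements (π₂ ≫ n - y ≫ s)
      (by dsimp; rw [Preadditive.sub_comp, Category.assoc, hy, Category.assoc, hs, sub_self])
    dsimp at m hm
    refine ⟨W₃, π₃ ≫ π₂ ≫ π₁, inferInstance, m, ?_⟩
    dsimp
    rw [Category.assoc, Category.assoc, hn, ← reassoc_of% hm]
    simp [Preadditive.sub_comp]
  have := h₃.2 _ _ hw' ⟨hex⟩
  exact IsSplitMono.mk' ⟨cokernel.π s ≫ retraction (i ≫ cokernel.π s),
    by rw [← Category.assoc]; exact IsSplitMono.id _⟩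

variable (M)

instance : (Hered M).IsClosedUnderSubobjects where
  prop_of_mono f _ hX := fun _ _ i p _ hp => hX (i ≫ f) p (mono_comp _ _) hp

instance : (Hered M).IsClosedUnderQuotients where
  prop_of_epi f _ hX := fun B Y i p _ _ =>
    hX (pullback.fst f i) (pullback.snd f i ≫ p) inferInstance
      (@epi_comp _ _ _ _ _ _ (Abelian.epi_pullback_of_epi_f f i) _ ‹Epi p›)

instance : (Hered M).IsClosedUnderExtensions where
  prop_X₂_of_shortExact {S} hS h₁ h₃ := fun B Y i p _ _ => by
    have := hS.mono_f
    let j := pullback.snd S.f i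
    let k := j ≫ p
    have hk : Epi (factorThruImage k) := inferInstance
    have hG₁ : Good M (Limits.image k) := h₁ (pullback.fst S.f i) (factorThruImage k) inferInstance hk
    have hS₀ : (ShortComplex.mk (image.ι k) (cokernel.π (image.ι k)) (cokernel.condition _)).ShortExact :=
      ⟨ShortComplex.exact_of_g_is_cokernel _ (cokernelIsCokernel _)⟩
    refine good_of_extension hS₀ hG₁ ?_
    have hv : kernel.ι (i ≫ S.g) ≫ p ≫ cokernel.π (image.ι k) = 0 := by
      let l : kernel (i ≫ S.g) ⟶ pullback S.f i :=
        pullback.lift (hS.exact.lift (kernel.ι (i ≫ S.g) ≫ i)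
          (by rw [Category.assoc, kernel.condition])) (kernel.ι (i ≫ S.g)) (by simp)
      have e : l ≫ j = kernel.ι (i ≫ S.g) := pullback.lift_snd _ _ _
      rw [← e, Category.assoc, show j ≫ p ≫ cokernel.π (image.ι k) =
        (factorThruImage k ≫ image.ι k) ≫ cokernel.π (image.ι k) by rw [image.fac]; simp [k],
        Category.assoc, cokernel.condition, comp_zero, comp_zero]
    let v : Abelian.coimage (i ≫ S.g) ⟶ cokernel (image.ι k) :=
      cokernel.desc _ (p ≫ cokernel.π (image.ι k)) hv
    have : Epi v := by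
      have : Epi (cokernel.π (kernel.ι (i ≫ S.g)) ≫ v) := by rw [cokernel.π_desc]; infer_instance
      exact epi_of_epi (cokernel.π (kernel.ι (i ≫ S.g))) v
    exact h₃ (Abelian.factorThruCoimage (i ≫ S.g)) v inferInstance inferInstance

instance : (Hered M).ContainsZero where
  exists_zero := ⟨0, isZero_zero C, fun B Y i p _ _ => by
    have hY : IsZero Y := IsZero.of_epi p (IsZero.of_mono i (isZero_zero C))
    refine ⟨fun f => hY.eq_of_src _ _, fun N i q w hS => ?_⟩
    have : IsIso i := (hS.isIso_f_iff).2 hY
    infer_instance⟩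

instance : (Hered M).IsSerreClass where

variable [HasColimitsOfSize.{w, w} C] [AB5OfSize.{w, w} C]

theorem hered_coproduct {J : Type w} (X : J → C) (c : Cofan X) (hc : IsColimit c)
    (hX : ∀ j, Hered M (X j)) : Hered M c.pt := by
  classical
  let N : Finset J → Subobject c.pt := fun F => F.sup fun j => imageSubobject (c.inj j)
  have hN : Monotone N := fun F F' h => Finset.sup_mono h
  have hNH : ∀ F, Hered M (N F : C) := fun F => by
    induction F using Finset.induction with
    | empty =>
      simp only [N, Finset.sup_empty]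
      exact (Hered M).prop_of_isZero ((isZero_zero _).of_iso Subobject.botCoeIsoZero)
    | insert a F ha ih =>
      simp only [N, Finset.sup_insert]
      rw [sup_eq_image]
      refine (Hered M).prop_of_epi (factorThruImageSubobject _) ?_
      exact (Hered M).prop_biprod
        ((Hered M).prop_of_epi (factorThruImageSubobject (c.inj a)) (hX a)) ih
  have hcov : Covers N := fun Z g hg => Cofan.IsColimit.hom_ext hc _ _ fun j => by
    rw [comp_zero, ← imageSubobject_arrow_comp (c.inj j), ← Subobject.ofLE_arrow
      (show imageSubobject (c.inj j) ≤ N {j} from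
        Finset.le_sup (f := fun j => imageSubobject (c.inj j)) (Finset.mem_singleton_self j))]
    simp only [Category.assoc, hg, comp_zero]
  intro B Y i p _ _
  let Q : Finset J → Subobject Y := fun F =>
    imageSubobject (((Subobject.pullback i).obj (N F)).arrow ≫ p)
  have hQc : Covers Q := ((hcov.pullback hN i).image p)
  have hQ : Monotone Q := fun F F' h => by
    have hle : (Subobject.pullback i).obj (N F) ≤ (Subobject.pullback i).obj (N F') :=
      leOfHom ((Subobject.pullback i).map (homOfLE (hN h)))
    refine imageSubobject_le _ (Subobject.ofLE _ _ hle ≫ factorThruImageSubobject _) ?_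
    simp only [Q, Category.assoc, imageSubobject_arrow_comp, Subobject.ofLE_arrow_assoc]
  have hG : ∀ F, Good M (Q F : C) := fun F => by
    have hm : Mono (Subobject.pullbackπ i (N F)) := by
      have : Mono (Subobject.pullbackπ i (N F) ≫ (N F).arrow) := by
        rw [(Subobject.isPullback i (N F)).w]; infer_instance
      exact mono_of_mono _ (N F).arrow
    exact hNH F (Subobject.pullbackπ i (N F)) (factorThruImageSubobject _) hm inferInstance
  refine ⟨fun f => hQc f fun F => (hG F).1 _, fun N' i' q w hS => ?_⟩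
  choose s hs using fun F => (hG F).exists_lift hS (Q F).arrow
  have := hS.mono_f
  let cs : Cocone (famFunctor Q hQ) := Cocone.mk N'
    { app := fun F => s F
      naturality := fun F F' h => by
        show Subobject.ofLE _ _ (hQ h.le) ≫ s F' = s F ≫ 𝟙 _
        rw [Category.comp_id, ← sub_eq_zero]
        have h0 : (Subobject.ofLE _ _ (hQ h.le) ≫ s F' - s F) ≫ q = 0 := by
          simp [Preadditive.sub_comp, hs]
        rw [← hS.exact.lift_f _ h0, (hG F).1 (hS.exact.lift _ h0), zero_comp] }
  let sec : Y ⟶ N' := (isColimitFam Q hQ hQc).desc cs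
  have hsec : sec ≫ q = 𝟙 Y := by
    rw [← sub_eq_zero]
    refine hQc _ fun F => ?_
    rw [Preadditive.comp_sub, Category.comp_id, ← Category.assoc]
    erw [(isColimitFam Q hQ hQc).fac cs F]
    rw [sub_eq_zero]
    exact hs F
  exact IsSplitMono.mk' ⟨(ShortComplex.Splitting.ofExactOfSection _ hS.exact sec hsec inferInstance).r,
    (ShortComplex.Splitting.ofExactOfSection _ hS.exact sec hsec inferInstance).f_r⟩

theorem isLocalizing_hered : GabLoc.IsLocalizing.{w} (Hered M) where
  isSerreClass := inferInstance
  isClosedUnderCoproducts J :=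
    ObjectProperty.IsClosedUnderColimitsOfShape.mk' (by
      rintro _ ⟨F, hF⟩
      let X : J → C := fun j => F.obj ⟨j⟩
      let e : F ≅ Discrete.functor X := Discrete.natIsoFunctor
      exact hered_coproduct M X (Cofan.mk _ fun j => colimit.ι F ⟨j⟩)
        (IsColimit.ofIsoColimit ((IsColimit.precomposeInvEquiv e _).symm (colimit.isColimit F))
          (Cocone.ext (Iso.refl _) (fun j => by simp [e]; exact Category.id_comp _)))
        fun j => hF ⟨j⟩)

variable {M}

theorem isClosedFor_locClosure (P : ObjectProperty C) (hP : P ≤ Hered M) :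
    GabLoc.IsClosedFor (GabLoc.locClosure.{w} P) M := by
  have key : ∀ ⦃Y : C⦄, GabLoc.locClosure.{w} P Y → Good M Y := fun Y hY =>
    hY (Hered M) (isLocalizing_hered M) hP (𝟙 Y) (𝟙 Y) inferInstance inferInstance
  exact ⟨fun Y hY f => (key hY).1 f, fun N Y i p w hY hS => (key hY).2 i p w hS⟩

end Groth.Agent.GabClosed
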